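import Groth.Agent.KInj.Derived

/-!
# Contractible injective complexes and null homotopic extensions
-/

set_option autoImplicit false
set_option backward.isDefEq.respectTransparency false

universe w v u

open CategoryTheory CategoryTheory.Limits CochainComplex CochainComplex.HomComplex

noncomputable section

namespace Groth.Agent.FilRepLib

variable {A : Type u} [Category.{v} A] [Abelian A]

theorem injective_coneId (K : CochainComplex A ℤ) (hK : ∀ n, Injective (K.X n)) :
    Injective (mappingCone (𝟙 K)) := by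
  refine ⟨fun {L' L} φ g hg => ?_⟩
  haveI : ∀ n, Mono (g.f n) := fun n => inferInstanceAs (Mono ((HomologicalComplex.eval A _ n).map g))
  let β : Cochain L' K 0 := (Cochain.ofHom φ).comp (mappingCone.snd (𝟙 K)) (add_zero 0)
  let β' : Cochain L K 0 := Cochain.ofHoms fun p =>
    haveI := hK p
    Injective.factorThru (β.v p p (add_zero p)) (g.f p)
  have hβ : (Cochain.ofHom g).comp β' (zero_add 0) = β := by
    ext p
    haveI := hK p
    simp [β']
  let α' : Cocycle L K 1 := Cocycle.mk (-δ 0 1 β') 2 rfl (by simp [δ_δ])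
  refine ⟨mappingCone.lift (𝟙 K) α' β' (by simp [α', Cochain.comp_id]), ?_⟩
  have h1 : (Cochain.ofHom g).comp α'.1 (zero_add 1) =
      (Cochain.ofHom φ).comp (mappingCone.fst (𝟙 K)).1 (zero_add 1) := by
    show (Cochain.ofHom g).comp (-δ 0 1 β') (zero_add 1) = _
    rw [Cochain.comp_neg, ← δ_ofHom_comp, hβ, δ_ofHom_comp, mappingCone.δ_snd, Cochain.comp_neg, neg_neg,
      Cochain.comp_id]
  ext n
  refine mappingCone.ext_to (𝟙 K) n (n + 1) rfl ?_ ?_
  · have := Cochain.congr_v h1 n (n + 1) rfl
    simpa using this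
  · have := Cochain.congr_v hβ n n (add_zero n)
    simpa [β] using this

instance mono_inr (K L : CochainComplex A ℤ) (φ : K ⟶ L) : Mono (mappingCone.inr φ) := by
  haveI : ∀ n, Mono ((mappingCone.inr φ).f n) := fun n =>
    (SplitMono.mk ((mappingCone.snd φ).v n n (add_zero n)) (mappingCone.inr_f_snd_v φ n)).mono
  exact HomologicalComplex.mono_of_mono_f _ inferInstance

variable [HasDerivedCategory.{w} A]

theorem isZero_Q_coneId (K : CochainComplex A ℤ) : IsZero (DerivedCategory.Q.obj (mappingCone (𝟙 K))) := by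
  rw [IsZero.iff_id_eq_zero, ← CategoryTheory.Functor.map_id]
  have h := HomotopyCategory.eq_of_homotopy _ _ (mappingCone.descHomotopy (𝟙 K) (𝟙 (mappingCone (𝟙 K))) 0 0
    (mappingCone.inl (𝟙 K)) (by simp) (by simp [mappingCone.δ_inl]))
  refine (cancel_mono ((DerivedCategory.quotientCompQhIso A).inv.app (mappingCone (𝟙 K)))).1 ?_
  refine ((DerivedCategory.quotientCompQhIso A).inv.naturality (𝟙 (mappingCone (𝟙 K)))).trans ?_
  refine (congrArg (fun a => (DerivedCategory.quotientCompQhIso A).inv.app (mappingCone (𝟙 K)) ≫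
    DerivedCategory.Qh.map a) h).trans ?_
  rw [Functor.map_zero, Functor.map_zero, comp_zero, zero_comp]

theorem isZero_Q_of_injective (W : CochainComplex A ℤ) [Injective W] : IsZero (DerivedCategory.Q.obj W) := by
  have h : mappingCone.inr (𝟙 W) ≫ Injective.factorThru (𝟙 W) (mappingCone.inr (𝟙 W)) = 𝟙 W :=
    Injective.comp_factorThru _ _
  rw [IsZero.iff_id_eq_zero, ← CategoryTheory.Functor.map_id, ← h, Functor.map_comp,
    (isZero_Q_coneId W).eq_of_tgt (DerivedCategory.Q.map (mappingCone.inr (𝟙 W))) 0, zero_comp]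

theorem exists_map_eq {L I : CochainComplex A ℤ} [I.IsKInjective]
    (a : DerivedCategory.Q.obj L ⟶ DerivedCategory.Q.obj I) : ∃ f : L ⟶ I, DerivedCategory.Q.map f = a := by
  obtain ⟨g, hg⟩ := (CochainComplex.IsKInjective.Qh_map_bijective _ I).surjective
    ((DerivedCategory.quotientCompQhIso A).hom.app L ≫ a ≫ (DerivedCategory.quotientCompQhIso A).inv.app I)
  obtain ⟨f, rfl⟩ := (HomotopyCategory.quotient A (ComplexShape.up ℤ)).map_surjective g
  refine ⟨f, (cancel_mono ((DerivedCategory.quotientCompQhIso A).inv.app I)).1 ?_⟩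
  refine ((DerivedCategory.quotientCompQhIso A).inv.naturality f).trans ?_
  refine (congrArg ((DerivedCategory.quotientCompQhIso A).inv.app L ≫ ·) hg).trans ?_
  exact Iso.inv_hom_id_app_assoc (DerivedCategory.quotientCompQhIso A) L _

theorem homotopy_zero {L I : CochainComplex A ℤ} [I.IsKInjective] (f : L ⟶ I)
    (hf : DerivedCategory.Q.map f = 0) : Nonempty (Homotopy f 0) := by
  refine ⟨HomotopyCategory.homotopyOfEq _ _ ((CochainComplex.IsKInjective.Qh_map_bijective _ I).injective ?_)⟩
  refine (cancel_epi ((DerivedCategory.quotientCompQhIso A).inv.app L)).1 ?_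
  refine ((DerivedCategory.quotientCompQhIso A).inv.naturality f).symm.trans ?_
  rw [hf, zero_comp, Functor.map_zero, Functor.map_zero, comp_zero]

/-- Null homotopic maps into complexes of injectives extend along monomorphisms. -/
theorem exists_extension {L L' I : CochainComplex A ℤ} [I.IsKInjective] (hI : ∀ n, Injective (I.X n))
    (s : L ⟶ L') [Mono s] (f : L ⟶ I) (hf : DerivedCategory.Q.map f = 0) :
    ∃ e : L' ⟶ I, s ≫ e = f ∧ DerivedCategory.Q.map e = 0 := by
  obtain ⟨h⟩ := homotopy_zero f hf
  haveI : ∀ n, Mono (s.f n) := fun n => inferInstanceAs (Mono ((HomologicalComplex.eval A _ n).map s))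
  let h' : ∀ i j, (ComplexShape.up ℤ).Rel j i → (L'.X i ⟶ I.X j) := fun i j _ =>
    haveI := hI j
    Injective.factorThru (h.hom i j) (s.f i)
  refine ⟨Homotopy.nullHomotopicMap' h', ?_, ?_⟩
  · rw [Homotopy.comp_nullHomotopicMap']
    refine Eq.trans ?_ (show Homotopy.nullHomotopicMap h.hom = f from ?_)
    · show Homotopy.nullHomotopicMap _ = _
      refine congrArg Homotopy.nullHomotopicMap (funext fun i => funext fun j => ?_)
      by_cases hr : (ComplexShape.up ℤ).Rel j i
      · haveI := hI j
        rw [dif_pos hr]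
        exact Injective.comp_factorThru _ _
      · rw [dif_neg hr, h.zero i j hr]
    · ext n
      have := h.comm n
      rw [HomologicalComplex.zero_f_apply, add_zero] at this
      exact this.symm
  · refine (cancel_mono ((DerivedCategory.quotientCompQhIso A).inv.app I)).1 ?_
    refine ((DerivedCategory.quotientCompQhIso A).inv.naturality (Homotopy.nullHomotopicMap' h')).trans ?_
    refine (congrArg (fun a => (DerivedCategory.quotientCompQhIso A).inv.app L' ≫ DerivedCategory.Qh.map a)
      (HomotopyCategory.eq_of_homotopy _ _ (Homotopy.nullHomotopy' h'))).trans ?_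
    rw [Functor.map_zero, Functor.map_zero, comp_zero, zero_comp]

end Groth.Agent.FilRepLib
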