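import Groth.Agent.FilRepLib.Basic

/-!
# Telescopes making a tower of complexes a tower of monomorphisms
-/

set_option autoImplicit false
set_option backward.isDefEq.respectTransparency false

universe w v u

open CategoryTheory CategoryTheory.Limits

noncomputable section

namespace Groth.Agent.FilRepLib

variable {A : Type u} [Category.{v} A] [Abelian A] [IsGrothendieckAbelian.{v} A]
  (I : ℤ → CochainComplex A ℤ) (f : ∀ i, I (i + 1) ⟶ I i)

instance : HasProductsOfShape (ℕ) (CochainComplex A ℤ) := inferInstance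

/-- The contractible tail. -/
abbrev W (i : ℤ) : CochainComplex A ℤ := ∏ᶜ fun j : {j : ℤ // i < j} => CochainComplex.mappingCone (𝟙 (I j))

/-- The telescope. -/
abbrev M (i : ℤ) : CochainComplex A ℤ := I i ⊞ W I i

/-- The components of the inclusions. -/
def stepC (i : ℤ) (j : {j : ℤ // i < j}) : M I (i + 1) ⟶ CochainComplex.mappingCone (𝟙 (I j)) :=
  if h : i + 1 < j.1 then biprod.snd ≫ Pi.π (fun j : {j : ℤ // i + 1 < j} => CochainComplex.mappingCone (𝟙 (I j))) ⟨j.1, h⟩
  else biprod.fst ≫ eqToHom (congrArg I (show i + 1 = j.1 from le_antisymm j.2 (not_lt.1 h))) ≫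
    CochainComplex.mappingCone.inr (𝟙 (I j))

/-- The inclusions. -/
def step (i : ℤ) : M I (i + 1) ⟶ M I i := biprod.lift (biprod.fst ≫ f i) (Pi.lift (stepC I i))

@[reassoc]
theorem step_fst (i : ℤ) : step I f i ≫ biprod.fst = biprod.fst ≫ f i := biprod.lift_fst _ _

instance mono_step (i : ℤ) : Mono (step I f i) := by
  refine Preadditive.mono_of_cancel_zero _ fun {T} x hx => ?_
  have h : ∀ j, x ≫ stepC I i j = 0 := fun j => by
    have := congrArg (· ≫ biprod.snd ≫ Pi.π _ j) hx
    simpa [step] using this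
  refine biprod.hom_ext _ _ ?_ (Pi.hom_ext _ _ fun j => ?_)
  · have h1 := h ⟨i + 1, lt_add_one i⟩
    rw [stepC, dif_neg (lt_irrefl _), eqToHom_refl, Category.id_comp, ← Category.assoc] at h1
    exact ((cancel_mono _).1 (h1.trans zero_comp.symm)).trans zero_comp.symm
  · have h1 := h ⟨j.1, (lt_add_one i).trans j.2⟩
    rw [stepC, dif_pos j.2, ← Category.assoc] at h1
    exact h1.trans (by rw [zero_comp, zero_comp])

variable [HasDerivedCategory.{w} A] (hI : ∀ i n, Injective ((I i).X n))

include hI in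
theorem isIso_Q_fst (i : ℤ) : IsIso (DerivedCategory.Q.map (biprod.fst : M I i ⟶ I i)) := by
  haveI : ∀ j : {j : ℤ // i < j}, Injective (CochainComplex.mappingCone (𝟙 (I j))) := fun j => injective_coneId _ (hI _)
  have hz : IsZero (DerivedCategory.Q.obj (W I i)) := isZero_Q_of_injective (W I i)
  refine ⟨DerivedCategory.Q.map biprod.inl, ?_, ?_⟩
  · have h := congrArg DerivedCategory.Q.map (biprod.total (X := I i) (Y := W I i))
    rw [Functor.map_add, Functor.map_comp, Functor.map_comp,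
      hz.eq_of_src (DerivedCategory.Q.map (biprod.inr : W I i ⟶ M I i)) 0, comp_zero, add_zero,
      CategoryTheory.Functor.map_id] at h
    exact h
  · rw [← Functor.map_comp, biprod.inl_fst, CategoryTheory.Functor.map_id]

omit [HasDerivedCategory.{w} A] [IsGrothendieckAbelian.{v} A] in
/-- Extending compatible families downwards. -/
theorem exists_family (N : ℤ → CochainComplex A ℤ) (s : ∀ i, N (i + 1) ⟶ N i) (T : CochainComplex A ℤ)
    (P : ∀ i, (N i ⟶ T) → Prop) (h0 : ∃ a, P 0 a) (hup : ∀ i a, P i a → P (i + 1) (s i ≫ a))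
    (hdown : ∀ i a, P (i + 1) a → ∃ b, s i ≫ b = a ∧ P i b) :
    ∃ ψ : ∀ i, N i ⟶ T, (∀ i, s i ≫ ψ i = ψ (i + 1)) ∧ ∀ i, P i (ψ i) := by
  obtain ⟨a, ha⟩ := h0
  let up : ∀ n : ℕ, {b : N (n : ℤ) ⟶ T // P (n : ℤ) b} :=
    fun n => Nat.rec (motive := fun n => {b : N (n : ℤ) ⟶ T // P (n : ℤ) b}) ⟨a, ha⟩
      (fun n b => ⟨s (n : ℤ) ≫ b.1, hup (n : ℤ) b.1 b.2⟩) n
  let first : {b : N (Int.negSucc 0) ⟶ T // s (Int.negSucc 0) ≫ b = a ∧ P _ b} :=
    Classical.indefiniteDescription _ (hdown (Int.negSucc 0) a ha)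
  let down : ∀ n : ℕ, {b : N (Int.negSucc n) ⟶ T // P (Int.negSucc n) b} :=
    fun n => Nat.rec (motive := fun n => {b : N (Int.negSucc n) ⟶ T // P (Int.negSucc n) b}) ⟨first.1, first.2.2⟩
      (fun n b => ⟨(hdown (Int.negSucc (n + 1)) b.1 b.2).choose, (hdown (Int.negSucc (n + 1)) b.1 b.2).choose_spec.2⟩) n
  refine ⟨fun i => match i with
    | Int.ofNat n => (up n).1
    | Int.negSucc n => (down n).1, ?_, ?_⟩
  · rintro (n | n)
    · rfl
    · cases n with
      | zero => exact first.2.1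
      | succ n => exact (hdown (Int.negSucc (n + 1)) (down n).1 (down n).2).choose_spec.1
  · rintro (n | n)
    · exact (up n).2
    · exact (down n).2

end Groth.Agent.FilRepLib
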