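import Groth.Prelude.Def_SpSeq
import Groth.Agent.FilRepLib.Tower
import Groth.Agent.KInj.Functorial

/-!
# Filtered complexes representing systems in the derived category
-/

set_option autoImplicit false
set_option backward.isDefEq.respectTransparency false

universe w v u

open CategoryTheory CategoryTheory.Limits

noncomputable section

namespace Groth.Agent.FilRepLib

variable {A : Type u} [Category.{v} A] [Abelian A]

theorem mono_ofSequence_map {X : ℕ → CochainComplex A ℤ} (f : ∀ n, X n ⟶ X (n + 1)) (hf : ∀ n, Mono (f n)) :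
    ∀ {i j : ℕ} (φ : i ⟶ j), Mono ((Functor.ofSequence f).map φ) := by
  intro i j φ
  obtain ⟨k, rfl⟩ := Nat.le.dest (leOfHom φ)
  induction k with
  | zero =>
    rw [Subsingleton.elim φ (𝟙 i), CategoryTheory.Functor.map_id]
    infer_instance
  | succ k ih =>
    rw [Subsingleton.elim φ (homOfLE (Nat.le_add_right i k) ≫ homOfLE (Nat.le_add_right (i + k) 1)),
      Functor.map_comp, Functor.ofSequence_map_homOfLE_succ]
    haveI := ih (homOfLE (Nat.le_add_right i k))
    haveI := hf (i + k)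
    infer_instance

theorem isIso_Q_biprod_fst [HasDerivedCategory.{w} A] (X Y : CochainComplex A ℤ)
    (hz : IsZero (DerivedCategory.Q.obj Y)) : IsIso (DerivedCategory.Q.map (biprod.fst : X ⊞ Y ⟶ X)) := by
  refine ⟨DerivedCategory.Q.map biprod.inl, ?_, ?_⟩
  · have h := congrArg DerivedCategory.Q.map (biprod.total (X := X) (Y := Y))
    rw [Functor.map_add, Functor.map_comp, Functor.map_comp,
      hz.eq_of_src (DerivedCategory.Q.map (biprod.inr : Y ⟶ X ⊞ Y)) 0, comp_zero, add_zero,
      CategoryTheory.Functor.map_id] at h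
    exact h
  · rw [← Functor.map_comp, biprod.inl_fst, CategoryTheory.Functor.map_id]

variable [IsGrothendieckAbelian.{v} A]

theorem exists_kInjective_model [HasDerivedCategory.{w} A] (E : DerivedCategory A) :
    ∃ (I : CochainComplex A ℤ), I.IsKInjective ∧ (∀ n, Injective (I.X n)) ∧
      Nonempty (DerivedCategory.Q.obj I ≅ E) := by
  haveI : (DerivedCategory.Q (C := A)).EssSurj :=
    Localization.essSurj _ (HomologicalComplex.quasiIso A (ComplexShape.up ℤ))
  obtain ⟨N, j, hN⟩ := Groth.Agent.KInj.exists_functorial_resolution A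
  obtain ⟨h1, h2, h3, -⟩ := hN (DerivedCategory.Q.objPreimage E)
  haveI := h3
  exact ⟨_, h1, h2, ⟨(asIso (DerivedCategory.Q.map (j.app (DerivedCategory.Q.objPreimage E)))).symm ≪≫
    DerivedCategory.Q.objObjPreimageIso E⟩⟩

/-- A tower of monomorphisms embeds compatibly in one complex. -/
theorem exists_mono_family (N : ℤ → CochainComplex A ℤ) (s : ∀ i, N (i + 1) ⟶ N i) (hs : ∀ i, Mono (s i)) :
    ∃ (T : CochainComplex A ℤ) (ψ : ∀ i, N i ⟶ T), (∀ i, Mono (ψ i)) ∧ ∀ i, s i ≫ ψ i = ψ (i + 1) := by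
  let D : ℕ ⥤ CochainComplex A ℤ :=
    Functor.ofSequence (X := fun n => N (Int.negSucc n)) (fun n => s (Int.negSucc (n + 1)))
  haveI : ∀ (i j : ℕ) (φ : i ⟶ j), Mono (D.map φ) := fun i j φ => mono_ofSequence_map _ (fun n => hs _) φ
  haveI : AB5OfSize.{0, 0} (CochainComplex A ℤ) := AB5OfSize_of_univLE.{0, 0, v, v} _
  haveI : ∀ n : ℕ, HasColimitsOfShape (Under n) (CochainComplex A ℤ) := fun n =>
    HasFilteredColimitsOfSize.HasColimitsOfShape _
  haveI hι : ∀ n, Mono (colimit.ι D n) := fun n =>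
    IsColimit.mono_ι_app_of_isFiltered (colimit.isColimit D) n
  let up : ∀ n : ℕ, N (n : ℤ) ⟶ colimit D := fun n =>
    Nat.rec (motive := fun n => N (n : ℤ) ⟶ colimit D) (s (Int.negSucc 0) ≫ colimit.ι D 0)
      (fun n b => s (n : ℤ) ≫ b) n
  have hup : ∀ n, Mono (up n) := fun n => by
    induction n with
    | zero => haveI := hs (Int.negSucc 0); exact mono_comp _ _
    | succ n ih => haveI := hs (n : ℤ); exact mono_comp' inferInstance ih
  refine ⟨colimit D, fun i => match i with
    | Int.ofNat n => up n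
    | Int.negSucc n => colimit.ι D n, ?_, ?_⟩
  · rintro (n | n)
    · exact hup n
    · exact hι n
  · rintro (n | n)
    · rfl
    · cases n with
      | zero => rfl
      | succ n =>
        refine Eq.trans ?_ (colimit.w D (homOfLE (Nat.le_add_right n 1)))
        exact congrArg (· ≫ colimit.ι D (n + 1)) (Functor.ofSequence_map_homOfLE_succ
          (X := fun n => N (Int.negSucc n)) (fun n => s (Int.negSucc (n + 1))) n).symm

variable [HasDerivedCategory.{w} A]

theorem exists_filtered (E : DerivedCategory A) (Es : ℤ → DerivedCategory A) (t : ∀ i : ℤ, Es (i + 1) ⟶ Es i)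
    (a : ∀ i : ℤ, Es i ⟶ E) (hat : ∀ i : ℤ, t i ≫ a i = a (i + 1)) :
    ∃ (K : SpSeq.FilCx A) (e : DerivedCategory.Q.obj K.obj ≅ E)
      (ei : ∀ i : ℤ, DerivedCategory.Q.obj (K.step i) ≅ Es i),
      (∀ i : ℤ, DerivedCategory.Q.map (K.fil i).arrow ≫ e.hom = (ei i).hom ≫ a i) ∧
      (∀ i : ℤ, DerivedCategory.Q.map (K.stepLE (le_of_lt (Int.lt_succ_self i))) ≫ (ei i).hom =
        (ei (i + 1)).hom ≫ t i) := by
  choose I hIK hIi hIe using fun i => exists_kInjective_model (Es i)
  obtain ⟨J, hJK, hJi, ⟨eJ⟩⟩ := exists_kInjective_model E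
  haveI := hJK
  have e : ∀ i, DerivedCategory.Q.obj (I i) ≅ Es i := fun i => (hIe i).some
  have hf' : ∀ i, ∃ g : I (i + 1) ⟶ I i, DerivedCategory.Q.map g = (e (i + 1)).hom ≫ t i ≫ (e i).inv := fun i => by
    haveI := hIK i
    exact exists_map_eq _
  choose f hf using hf'
  choose g hg using fun i => exists_map_eq (I := J) ((e i).hom ≫ a i ≫ eJ.inv)
  have hfg : ∀ i, DerivedCategory.Q.map (f i) ≫ DerivedCategory.Q.map (g i) = DerivedCategory.Q.map (g (i + 1)) :=
    fun i => by rw [hf, hg, hg]; simp [← hat i]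
  let Pr : ∀ i, (M I i ⟶ J) → Prop := fun i b =>
    DerivedCategory.Q.map b = DerivedCategory.Q.map (biprod.fst : M I i ⟶ I i) ≫ DerivedCategory.Q.map (g i)
  obtain ⟨G, hG, hGQ⟩ := exists_family (M I) (step I f) J Pr ⟨biprod.fst ≫ g 0, Functor.map_comp _ _ _⟩
    (fun i b hb => by
      show DerivedCategory.Q.map (step I f i ≫ b) = _
      rw [Functor.map_comp, hb, ← Category.assoc, ← Functor.map_comp, step_fst, Functor.map_comp, Category.assoc, hfg])
    (fun i b hb => by
      obtain ⟨ε, hε, hεQ⟩ := exists_extension hJi (step I f i) (b - step I f i ≫ biprod.fst ≫ g i) (by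
        rw [Functor.map_sub, hb, step_fst_assoc, Functor.map_comp, Functor.map_comp, hfg, sub_self])
      refine ⟨biprod.fst ≫ g i + ε, by rw [Preadditive.comp_add, hε, add_sub_cancel], ?_⟩
      show DerivedCategory.Q.map _ = _
      rw [Functor.map_add, hεQ, add_zero, Functor.map_comp])
  obtain ⟨T, ψ, hψm, hψ⟩ := exists_mono_family (M I) (step I f) fun i => inferInstance
  let Ψ : ∀ i, M I i ⟶ J ⊞ CochainComplex.mappingCone (𝟙 T) := fun i =>
    biprod.lift (G i) (ψ i ≫ CochainComplex.mappingCone.inr (𝟙 T))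
  haveI hΨ : ∀ i, Mono (Ψ i) := fun i => by
    haveI := hψm i
    haveI : Mono (Ψ i ≫ biprod.snd) := by rw [biprod.lift_snd]; infer_instance
    exact mono_of_mono _ biprod.snd
  have hΨstep : ∀ i, step I f i ≫ Ψ i = Ψ (i + 1) := fun i =>
    biprod.hom_ext _ _ (by simp [Ψ, hG]) (by simp [Ψ, reassoc_of% hψ])
  haveI hiJ := isIso_Q_biprod_fst J (CochainComplex.mappingCone (𝟙 T)) (isZero_Q_coneId T)
  haveI hiM : ∀ i, IsIso (DerivedCategory.Q.map (biprod.fst : M I i ⟶ I i)) := isIso_Q_fst I hIi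
  let K : SpSeq.FilCx A := ⟨J ⊞ CochainComplex.mappingCone (𝟙 T), fun i => Subobject.mk (Ψ i),
    antitone_int_of_succ_le fun i => Subobject.mk_le_mk_of_comm (step I f i) (hΨstep i)⟩
  refine ⟨K, asIso (DerivedCategory.Q.map (biprod.fst : J ⊞ CochainComplex.mappingCone (𝟙 T) ⟶ J)) ≪≫ eJ,
    fun i => DerivedCategory.Q.mapIso (Subobject.underlyingIso (Ψ i)) ≪≫
      asIso (DerivedCategory.Q.map (biprod.fst : M I i ⟶ I i)) ≪≫ e i, fun i => ?_, fun i => ?_⟩
  · rw [← Subobject.underlyingIso_hom_comp_eq_mk (Ψ i), Functor.map_comp]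
    simp only [Iso.trans_hom, asIso_hom, Functor.mapIso_hom, Category.assoc]
    rw [← Functor.map_comp_assoc DerivedCategory.Q (Ψ i), biprod.lift_fst, hGQ i, hg]
    simp
  · have h : K.stepLE (le_of_lt (Int.lt_succ_self i)) ≫ (Subobject.underlyingIso (Ψ i)).hom =
        (Subobject.underlyingIso (Ψ (i + 1))).hom ≫ step I f i := by
      rw [← cancel_mono (Ψ i), Category.assoc, Category.assoc, hΨstep, Subobject.underlyingIso_hom_comp_eq_mk,
        Subobject.underlyingIso_hom_comp_eq_mk]
      exact Subobject.ofLE_arrow _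
    simp only [Iso.trans_hom, asIso_hom, Functor.mapIso_hom, Category.assoc]
    rw [← Functor.map_comp_assoc, h, Functor.map_comp_assoc, ← Functor.map_comp_assoc DerivedCategory.Q (step I f i),
      step_fst, Functor.map_comp_assoc, hf]
    simp

end Groth.Agent.FilRepLib
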